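import Cfsg.Agent.Lib.Golay.Mult.Check
import Cfsg.Agent.Lib.Schur.ExtraThree

/-!
Odd primes for the multipliers of groups of permutations of the 24 points.
-/

set_option autoImplicit false
set_option linter.style.haveILetI false

namespace CfsgLib.Golay.Mult

open Cfsg CfsgLib.Golay CfsgLib.Golay.SylowTwo

attribute [local irreducible] idP toPerm mulP validP

/-- A group whose Sylow `ℓ`-subgroups have prime order is harmless at `ℓ`. -/
theorem local_of_sq_not_dvd {G : Type} [Group G] [Finite G] {ℓ : ℕ} (hℓ : ℓ.Prime)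
    (h : ¬ ℓ ^ 2 ∣ Nat.card G) : ∃ U : Subgroup G, ¬ ℓ ∣ U.index ∧
      ∀ (Γ : Type) [Group Γ] [Finite Γ] (σ : Γ →* G), Function.Surjective σ →
        σ.ker ≤ Subgroup.center Γ → ∀ z ∈ σ.ker, z ∈ ⁅U.comap σ, U.comap σ⁆ → z ^ ℓ = 1 → z = 1 := by
  haveI := Fact.mk hℓ
  refine ⟨(default : Sylow ℓ G), Sylow.not_dvd_index _, fun Γ _ _ σ hσ hc z hz hzd _ => ?_⟩
  have hP := (default : Sylow ℓ G).card_eq_multiplicity
  haveI : IsCyclic ((default : Sylow ℓ G) : Subgroup G) := by
    rcases Nat.lt_or_ge ((Nat.card G).factorization ℓ) 2 with hlt | hge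
    · interval_cases hf : (Nat.card G).factorization ℓ
      · rw [pow_zero] at hP
        have : Subsingleton ((default : Sylow ℓ G) : Subgroup G) := (Nat.card_eq_one_iff_unique.1 hP).1
        exact isCyclic_of_subsingleton
      · rw [pow_one] at hP
        exact isCyclic_of_prime_card hP
    · exact absurd ((pow_dvd_pow ℓ hge).trans (Nat.ordProj_dvd _ ℓ)) h
  rw [CfsgLib.Schur.preimage_commutator_eq_bot_of_isCyclic σ hc] at hzd
  exact Subgroup.mem_bot.mp hzd

/-- the product of packed permutations in the group -/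
def prodP : List ℕ → ℕ
  | [] => idP
  | P :: l => mulP P (prodP l)

theorem prod_lift {G : Subgroup (Equiv.Perm GolayPt)} {inG : ℕ → Bool}
    (hG : ∀ P, inG P = true → validP P = true ∧ toPerm P ∈ G) : ∀ l : List ℕ, l.all inG = true →
      validP (prodP l) = true ∧ ((l.map (lift G)).prod : G).1 = toPerm (prodP l) := by
  intro l
  induction l with
  | nil => intro _; exact ⟨validP_idP, by rw [prodP, toPerm_idP]; rfl⟩
  | cons P l ih =>
    intro h
    simp only [List.all_cons, Bool.and_eq_true] at h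
    obtain ⟨hv, he⟩ := ih h.2
    refine ⟨validP_mulP (hG _ h.1).1 hv, ?_⟩
    rw [List.map_cons, List.prod_cons, Subgroup.coe_mul, lift_val hG h.1, he, prodP,
      toPerm_mulP (hG _ h.1).1 hv]

theorem prod_lift_eq {G : Subgroup (Equiv.Perm GolayPt)} {inG : ℕ → Bool}
    (hG : ∀ P, inG P = true → validP P = true ∧ toPerm P ∈ G) {l r : List ℕ}
    (h : (l.all inG && r.all inG && eqP (prodP l) (prodP r)) = true) :
    (l.map (lift G)).prod = (r.map (lift G)).prod := by
  simp only [Bool.and_eq_true] at h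
  obtain ⟨h1, e1⟩ := prod_lift hG l h.1.1
  obtain ⟨h2, e2⟩ := prod_lift hG r h.1.2
  exact Subtype.ext (by rw [e1, e2, toPerm_eq_of_eqP h1 h2 h.2])

theorem prod_lift_ne {G : Subgroup (Equiv.Perm GolayPt)} {inG : ℕ → Bool}
    (hG : ∀ P, inG P = true → validP P = true ∧ toPerm P ∈ G) {l r : List ℕ}
    (hl : l.all inG = true) (hr : r.all inG = true) (h : eqP (prodP l) (prodP r) = false) :
    (l.map (lift G)).prod ≠ (r.map (lift G)).prod := fun e => by
  obtain ⟨h1, e1⟩ := prod_lift hG l hl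
  obtain ⟨h2, e2⟩ := prod_lift hG r hr
  rw [eqP_of_toPerm_eq h1 h2 (by rw [← e1, ← e2, e])] at h
  exact absurd h (by simp)

end CfsgLib.Golay.Mult
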