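import Cfsg.Agent.Lib.Golay.SylowTwoCert
import Cfsg.Agent.Lib.Schur.InvolutionLift

/-!
Checking that a certificate rules out stem double covers of a group of permutations of the 24 points.
-/

set_option autoImplicit false

namespace CfsgLib.Golay.Mult

open Cfsg CfsgLib.Golay CfsgLib.Golay.SylowTwo CfsgLib.Schur.InvTable CfsgLib.Schur.InvolLift

/-- the data -/
structure Cert where
  /-- the table -/
  T : Tab
  /-- the generators -/
  gens : List ℕ
  /-- packed elements of the subgroup -/
  els : ℕ
  /-- packed sorting of the elements -/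
  perm : ℕ
  /-- packed positions in the sorting -/
  rank : ℕ
  /-- representatives of the classes of involutions -/
  reps : List ℕ
  /-- triples of commuting involutions with the classes of their seven products -/
  seven : List (ℕ × ℕ × ℕ × List (ℕ × ℕ))
  /-- classes and conjugators of the generators -/
  genWhy : List (ℕ × ℕ)
  /-- kinds of the relators -/
  wordWhy : List (ℕ × ℕ)
  /-- generators fixed by a relator of odd length -/
  odd : List ℕ
  /-- the number of classes assumed to lift to involutions -/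
  assume : ℕ := 0

namespace Cert

variable (C : Cert)

/-- an element of the subgroup -/
def el (i : ℕ) : ℕ := (C.els >>> (128 * i)) % 2 ^ 128

/-- position in the sorted list -/
def pos (i : ℕ) : ℕ := (C.rank >>> (11 * i)) % 2048

/-- the sorted list -/
def srt (r : ℕ) : ℕ := (C.perm >>> (11 * r)) % 2048

/-- a generator -/
def gen (j : ℕ) : ℕ := C.gens.getD j idP

/-- conjugate to a representative -/
def conjOK (inG : ℕ → Bool) (c g P : ℕ) : Bool :=
  decide (c < C.reps.length) && inG g && eqP (mulP g P) (mulP (C.reps.getD c idP) g)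

/-- the product of a word -/
def wordP : List ℕ → ℕ
  | [] => idP
  | j :: w => mulP (C.gen j) (wordP w)

/-- a relator -/
def wordOK (inG : ℕ → Bool) (w : List ℕ) (y : ℕ × ℕ) : Bool :=
  match y.1 with
  | 0 => C.odd.any fun j => w == [0, j, 0, j, 0, j]
  | c + 1 =>
    w == w.take (w.length / 2) ++ w.take (w.length / 2) && w.all (fun j => decide (j < C.gens.length))
      && C.conjOK inG c y.2 (C.wordP (w.take (w.length / 2)))

/-- the seven products determine one class -/
def sevenOK (inG : ℕ → Bool) (c : ℕ) (y : ℕ × ℕ × ℕ × List (ℕ × ℕ)) : Bool :=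
  match y with
  | (u, v, w, l) =>
    inG u && inG v && inG w && eqP (mulP v u) (mulP u v) && eqP (mulP w u) (mulP u w)
      && eqP (mulP w v) (mulP v w) && l.length == 7
      && (l.zip [mulP (mulP u v) w, mulP u v, mulP u w, mulP v w, u, v, w]).all
        (fun z => decide (z.1.1 ≤ c) && C.conjOK inG z.1.1 z.1.2 z.2)
      && decide ((l.countP fun z => z.1 == c) % 2 = 1)

/-- all checks -/
def ok (inG : ℕ → Bool) : Bool :=
  C.T.ok && C.gens.length == C.T.k && C.gens.all inG && C.reps.all inG
    && C.reps.all (fun R => eqP (mulP R R) idP)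
    && C.seven.length == C.reps.length
    && (List.range C.reps.length).all (fun c =>
      decide (c < C.assume) || C.sevenOK inG c (C.seven.getD c (0, 0, 0, [])))
    && C.genWhy.length == C.T.k
    && (C.gens.zip C.genWhy).all (fun z => C.conjOK inG z.2.1 z.2.2 z.1)
    && C.wordWhy.length == C.T.words.length
    && (C.T.words.zip C.wordWhy).all (fun z => C.wordOK inG z.1 z.2)
    && C.odd.all (fun j => decide (j ≠ 0) && decide (j < C.T.k) && decide (0 < C.T.k) &&
        eqP (C.wordP [0, j, 0, j, 0, j]) idP)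
    && C.el 0 == idP
    && (List.range C.T.tree.length).all (fun t =>
        C.el (t + 1) == mulP (C.gen (C.T.tree.getD t (0, 0)).1) (C.el (C.T.tree.getD t (0, 0)).2)
          && decide ((C.T.tree.getD t (0, 0)).2 < t + 1) && decide ((C.T.tree.getD t (0, 0)).1 < C.T.k))
    && (List.range C.T.N).all (fun i => C.srt (C.pos i) == i && decide (C.pos i < C.T.N) && decide (C.el i < 32 ^ 24))
    && (List.range (C.T.N - 1)).all (fun r => decide (C.el (C.srt r) < C.el (C.srt (r + 1))))

end Cert

attribute [local irreducible] idP toPerm mulP validP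

variable {G : Subgroup (Equiv.Perm GolayPt)} {inG : ℕ → Bool}

open Classical in
/-- the element of a packed permutation -/
noncomputable def lift (G : Subgroup (Equiv.Perm GolayPt)) (P : ℕ) : G :=
  if h : toPerm P ∈ G then ⟨toPerm P, h⟩ else 1

theorem lift_val (hG : ∀ P, inG P = true → validP P = true ∧ toPerm P ∈ G) {P : ℕ} (h : inG P = true) :
    (lift G P : Equiv.Perm GolayPt) = toPerm P := by
  rw [lift, dif_pos (hG P h).2]

theorem mul_self_lift (hG : ∀ P, inG P = true → validP P = true ∧ toPerm P ∈ G) {P : ℕ}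
    (h : inG P = true) (he : eqP (mulP P P) idP = true) : lift G P * lift G P = 1 := by
  apply Subtype.ext
  rw [Subgroup.coe_mul, lift_val hG h, ← toPerm_mulP (hG P h).1 (hG P h).1,
    toPerm_eq_of_eqP (validP_mulP (hG P h).1 (hG P h).1) validP_idP he, toPerm_idP, Subgroup.coe_one]

theorem conj_eq (hG : ∀ P, inG P = true → validP P = true ∧ toPerm P ∈ G) {C : Cert} {c g P : ℕ}
    (hreps : C.reps.all inG = true) (h : C.conjOK inG c g P = true) {x : G}
    (hx : (x : Equiv.Perm GolayPt) = toPerm P) (hP : validP P = true) :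
    c < C.reps.length ∧ lift G g * x = lift G (C.reps.getD c idP) * lift G g := by
  simp only [Cert.conjOK, Bool.and_eq_true, decide_eq_true_eq] at h
  obtain ⟨⟨hc, hg⟩, he⟩ := h
  refine ⟨hc, Subtype.ext ?_⟩
  have hR : inG (C.reps.getD c idP) = true := by
    rw [List.getD_eq_getElem?_getD, List.getElem?_eq_getElem hc]
    exact List.all_eq_true.1 hreps _ (List.getElem_mem hc)
  rw [Subgroup.coe_mul, Subgroup.coe_mul, lift_val hG hg, lift_val hG hR, hx,
    ← toPerm_mulP (hG g hg).1 hP, ← toPerm_mulP (hG _ hR).1 (hG g hg).1]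
  exact toPerm_eq_of_eqP (validP_mulP (hG g hg).1 hP) (validP_mulP (hG _ hR).1 (hG g hg).1) he

theorem eq_of_ap : ∀ (k P Q : ℕ), P < 32 ^ k → Q < 32 ^ k → (∀ i < k, ap P i = ap Q i) → P = Q := by
  intro k
  induction k with
  | zero => intro P Q hP hQ _; simp only [pow_zero] at hP hQ; omega
  | succ k ih =>
    intro P Q hP hQ h
    have h0 := h 0 (Nat.succ_pos k)
    rw [ap_zero, ap_zero] at h0
    rw [pow_succ] at hP hQ
    have h1 : P / 32 = Q / 32 := ih _ _ (by omega) (by omega) fun i hi => by
      rw [← ap_succ, ← ap_succ]; exact h (i + 1) (by omega)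
    omega

theorem wordP_spec (hG : ∀ P, inG P = true → validP P = true ∧ toPerm P ∈ G) {C : Cert}
    (hgens : C.gens.all inG = true) : ∀ w : List ℕ, (∀ j ∈ w, j < C.gens.length) →
      validP (C.wordP w) = true ∧
        ((w.map fun j => lift G (C.gen j)).prod : G).1 = toPerm (C.wordP w) := by
  intro w
  induction w with
  | nil => intro _; exact ⟨validP_idP, by rw [Cert.wordP, toPerm_idP]; rfl⟩
  | cons j w ih =>
    intro h
    simp only [List.mem_cons, forall_eq_or_imp] at h
    have hj : inG (C.gen j) = true := by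
      rw [Cert.gen, List.getD_eq_getElem?_getD, List.getElem?_eq_getElem h.1]
      exact List.all_eq_true.1 hgens _ (List.getElem_mem h.1)
    obtain ⟨hv, he⟩ := ih h.2
    refine ⟨validP_mulP (hG _ hj).1 hv, ?_⟩
    rw [List.map_cons, List.prod_cons, Subgroup.coe_mul, lift_val hG hj, he, Cert.wordP,
      toPerm_mulP (hG _ hj).1 hv]

/-- A certificate rules out stem double covers. -/
theorem no_double_of_cert_base {G : Subgroup (Equiv.Perm GolayPt)} {inG : ℕ → Bool}
    (hG : ∀ P, inG P = true → validP P = true ∧ toPerm P ∈ G) (C : Cert) (hok : C.ok inG = true)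
    (hodd : ∀ m, C.T.N * m = Nat.card G → ¬ 2 ∣ m) (E : Type) [Group E] [Finite E] (τ : E →* G)
    (hτ : Cfsg.IsStemExtension τ) (h2 : Nat.card τ.ker = 2)
    (hbase : ∀ c, c < C.assume → SqOne τ (lift G (C.reps.getD c idP))) : False := by
  simp only [Cert.ok, Bool.and_eq_true, beq_iff_eq] at hok
  obtain ⟨⟨⟨⟨⟨⟨⟨⟨⟨⟨⟨⟨⟨⟨⟨hT, hlen⟩, hgens⟩, hreps⟩, hrsq⟩, hslen⟩, hsev⟩, hgwlen⟩, hgw⟩, hwwlen⟩,
    hww⟩, hOdd⟩, hel0⟩, htree⟩, hpos⟩, hmono⟩ := hok
  have D := double_of_card_two hτ h2
  let rep : ℕ → G := fun c => lift G (C.reps.getD c idP)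
  have hrep2 : ∀ c < C.reps.length, rep c * rep c = 1 := fun c hc => by
    have hm : C.reps.getD c idP ∈ C.reps := by
      rw [List.getD_eq_getElem?_getD, List.getElem?_eq_getElem hc]; exact List.getElem_mem hc
    exact mul_self_lift hG (List.all_eq_true.1 hreps _ hm) (List.all_eq_true.1 hrsq _ hm)
  have hconj : ∀ {c g P : ℕ} {x : G}, C.conjOK inG c g P = true → (x : Equiv.Perm GolayPt) = toPerm P →
      validP P = true → c < C.reps.length ∧ x * x = 1 ∧ D.q x = D.q (rep c) := by
    intro c g P x h hx hP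
    obtain ⟨hc, he⟩ := conj_eq hG hreps h hx hP
    have h2x : x * x = 1 := by
      have hx' : x = (lift G g)⁻¹ * rep c * lift G g := by rw [mul_assoc, ← he, inv_mul_cancel_left]
      rw [hx', show (lift G g)⁻¹ * rep c * lift G g * ((lift G g)⁻¹ * rep c * lift G g) =
        (lift G g)⁻¹ * (rep c * rep c) * lift G g by group, hrep2 c hc, mul_one, inv_mul_cancel]
    exact ⟨hc, h2x, (D.q_conj he h2x).symm⟩
  -- every class lifts to involutions
  have hclass : ∀ c, c < C.reps.length → D.q (rep c) = 1 := by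
    intro c
    induction c using Nat.strong_induction_on with
    | _ c ih =>
      intro hc
      have hs := List.all_eq_true.1 hsev c (List.mem_range.2 hc)
      rw [Bool.or_eq_true, decide_eq_true_eq] at hs
      rcases hs with hs | hs
      · exact D.sqOne_iff.1 (hbase c hs)
      rcases hy : C.seven.getD c (0, 0, 0, []) with ⟨u, v, w, l⟩
      rw [hy] at hs
      simp only [Cert.sevenOK, Bool.and_eq_true, beq_iff_eq, decide_eq_true_eq] at hs
      obtain ⟨⟨⟨⟨⟨⟨⟨⟨hu, hv⟩, hw⟩, huv⟩, huw⟩, hvw⟩, hl⟩, hz⟩, hcnt⟩ := hs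
      have mulv : ∀ {P Q : ℕ}, inG P = true → inG Q = true →
          ((lift G P * lift G Q : G) : Equiv.Perm GolayPt) = toPerm (mulP P Q) := fun hP hQ => by
        rw [Subgroup.coe_mul, lift_val hG hP, lift_val hG hQ, toPerm_mulP (hG _ hP).1 (hG _ hQ).1]
      have hcomm : ∀ {P Q : ℕ}, inG P = true → inG Q = true → eqP (mulP Q P) (mulP P Q) = true →
          lift G Q * lift G P = lift G P * lift G Q := fun {P Q} hP hQ h => Subtype.ext (by
        rw [mulv hQ hP, mulv hP hQ]
        exact toPerm_eq_of_eqP (validP_mulP (hG _ hQ).1 (hG _ hP).1)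
          (validP_mulP (hG _ hP).1 (hG _ hQ).1) h)
      match l, hl with
      | [a0, a1, a2, a3, a4, a5, a6], _ =>
        simp only [List.zip_cons_cons, List.zip_nil_left, List.all_cons, List.all_nil, Bool.and_true,
          Bool.and_eq_true, decide_eq_true_eq] at hz
        obtain ⟨⟨c0, k0⟩, ⟨c1, k1⟩, ⟨c2, k2⟩, ⟨c3, k3⟩, ⟨c4, k4⟩, ⟨c5, k5⟩, ⟨c6, k6⟩⟩ := hz
        obtain ⟨-, hu2, e4⟩ := hconj k4 (lift_val hG hu) (hG _ hu).1
        obtain ⟨-, hv2, e5⟩ := hconj k5 (lift_val hG hv) (hG _ hv).1
        obtain ⟨-, hw2, e6⟩ := hconj k6 (lift_val hG hw) (hG _ hw).1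
        obtain ⟨-, -, e1⟩ := hconj k1 (mulv hu hv) (validP_mulP (hG _ hu).1 (hG _ hv).1)
        obtain ⟨-, -, e2⟩ := hconj k2 (mulv hu hw) (validP_mulP (hG _ hu).1 (hG _ hw).1)
        obtain ⟨-, -, e3⟩ := hconj k3 (mulv hv hw) (validP_mulP (hG _ hv).1 (hG _ hw).1)
        obtain ⟨-, -, e0⟩ := hconj (x := lift G u * lift G v * lift G w) k0
          (by rw [Subgroup.coe_mul, mulv hu hv, lift_val hG hw,
            toPerm_mulP (validP_mulP (hG _ hu).1 (hG _ hv).1) (hG _ hw).1])
          (validP_mulP (validP_mulP (hG _ hu).1 (hG _ hv).1) (hG _ hw).1)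
        have h7 := D.q_seven hu2 hv2 hw2 (hcomm hu hv huv) (hcomm hu hw huw) (hcomm hv hw hvw)
        rw [e0, e1, e2, e3, e4, e5, e6] at h7
        have hk := D.q_mem_ker (hrep2 c hc)
        have hqq := D.sq hk
        have val : ∀ d, d ≤ c → D.q (rep d) = D.q (rep c) ^ (if d = c then 1 else 0) := fun d hd => by
          split_ifs with h
          · rw [h, pow_one]
          · rw [pow_zero]
            exact ih d (lt_of_le_of_ne hd h) (lt_of_le_of_lt hd hc)
        rw [val _ c0, val _ c1, val _ c2, val _ c3, val _ c4, val _ c5, val _ c6] at h7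
        simp only [← pow_add] at h7
        set n0 := (if a0.1 = c then 1 else 0) with hn0
        set n1 := (if a1.1 = c then 1 else 0) + (if a2.1 = c then 1 else 0) + (if a3.1 = c then 1 else 0)
          + ((if a4.1 = c then 1 else 0) + (if a5.1 = c then 1 else 0) + (if a6.1 = c then 1 else 0))
          with hn1
        have hn : (n0 + n1) % 2 = 1 := by
          simp only [List.countP_cons, List.countP_nil, beq_iff_eq] at hcnt
          rw [hn0, hn1]; omega
        have h8 : D.q (rep c) ^ (n0 + n1) = 1 := by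
          rw [pow_add, h7, ← pow_add, ← two_mul, pow_mul, sq, hqq, one_pow]
        obtain ⟨m, hm⟩ : ∃ m, n0 + n1 = 2 * m + 1 := ⟨(n0 + n1) / 2, by omega⟩
        rwa [hm, pow_succ, pow_mul, sq, hqq, one_pow, one_mul] at h8
  have hsqOne : ∀ {c g P : ℕ} {x : G}, C.conjOK inG c g P = true →
      (x : Equiv.Perm GolayPt) = toPerm P → validP P = true → x * x = 1 ∧ SqOne τ x := by
    intro c g P x h hx hP
    obtain ⟨hc, h2x, he⟩ := hconj h hx hP
    exact ⟨h2x, D.sqOne_iff.2 (he.trans (hclass c hc))⟩
  let g : ℕ → G := fun j => lift G (C.gen j)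
  have hgin : ∀ j < C.T.k, inG (C.gen j) = true := fun j hj => by
    rw [Cert.gen, List.getD_eq_getElem?_getD, List.getElem?_eq_getElem (by omega)]
    exact List.all_eq_true.1 hgens _ (List.getElem_mem _)
  refine no_double hτ h2 C.T C.odd g hT ?_ ?_ ?_ ?_ hodd
  · intro j hj
    have hz : ((C.gens[j]'(by omega)), (C.genWhy[j]'(by omega))) ∈ C.gens.zip C.genWhy := by
      rw [List.mem_iff_getElem]
      exact ⟨j, by simp [List.length_zip]; omega, by simp⟩
    have h := List.all_eq_true.1 hgw _ hz
    have e : C.gen j = C.gens[j]'(by omega) := by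
      rw [Cert.gen, List.getD_eq_getElem?_getD, List.getElem?_eq_getElem (by omega)]; rfl
    exact hsqOne h (by rw [← e]; exact lift_val hG (hgin j hj)) (by rw [← e]; exact (hG _ (hgin j hj)).1)
  · intro w hw
    obtain ⟨i, hi, rfl⟩ := List.getElem_of_mem hw
    have hz : ((C.T.words[i]), (C.wordWhy[i]'(by omega))) ∈ C.T.words.zip C.wordWhy := by
      rw [List.mem_iff_getElem]
      exact ⟨i, by simp [List.length_zip]; omega, by simp⟩
    have h := List.all_eq_true.1 hww _ hz
    simp only [Cert.wordOK] at h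
    split at h
    · obtain ⟨j, hj, he⟩ := List.any_eq_true.1 h
      exact Or.inr ⟨j, hj, beq_iff_eq.1 he⟩
    · simp only [Bool.and_eq_true, beq_iff_eq, List.all_eq_true, decide_eq_true_eq] at h
      obtain ⟨⟨hv, hlt⟩, hc⟩ := h
      refine Or.inl ⟨_, hv, ?_⟩
      obtain ⟨hvP, he⟩ := wordP_spec hG hgens (C.T.words[i].take (C.T.words[i].length / 2))
        (fun j hj => hlt j (List.mem_of_mem_take hj))
      exact hsqOne hc he hvP
  · intro j hj
    have h := List.all_eq_true.1 hOdd j hj
    simp only [Bool.and_eq_true, decide_eq_true_eq] at h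
    obtain ⟨⟨⟨hj0, hjk⟩, hk⟩, he⟩ := h
    refine ⟨hj0, ?_⟩
    obtain ⟨hv, hw⟩ := wordP_spec hG hgens [0, j, 0, j, 0, j]
      (fun a ha => by simp only [List.mem_cons, List.not_mem_nil, or_false] at ha; omega)
    have h1 : ([0, j, 0, j, 0, j].map g).prod = 1 := Subtype.ext (by
      rw [hw, toPerm_eq_of_eqP hv validP_idP he, toPerm_idP]; rfl)
    rw [← h1]; simp [pow_succ, mul_assoc]
  · have hel : ∀ t, t < C.T.N → validP (C.el t) = true ∧
        ((C.T.phi g t : G) : Equiv.Perm GolayPt) = toPerm (C.el t) := by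
      intro t
      induction t using Nat.strong_induction_on with
      | _ t ih =>
        intro ht
        have hN : C.T.tree.length + 1 = C.T.N := by
          simp only [Tab.ok, Bool.and_eq_true, decide_eq_true_eq] at hT
          exact hT.1.2
        rcases t with _ | t
        · rw [Tab.phi_zero, hel0]
          exact ⟨validP_idP, by rw [toPerm_idP]; rfl⟩
        · have h := List.all_eq_true.1 htree t (List.mem_range.2 (by omega))
          simp only [Bool.and_eq_true, beq_iff_eq, decide_eq_true_eq] at h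
          obtain ⟨⟨he, hlt⟩, hjk⟩ := h
          obtain ⟨hv, hp⟩ := ih _ hlt (by omega)
          rw [he, Tab.phi, if_pos (by simp only [Nat.add_sub_cancel]; omega)]
          simp only [Nat.add_sub_cancel]
          refine ⟨validP_mulP (hG _ (hgin _ hjk)).1 hv, ?_⟩
          rw [Subgroup.coe_mul, hp, lift_val hG (hgin _ hjk), toPerm_mulP (hG _ (hgin _ hjk)).1 hv]
    have hsm : ∀ b, ∀ a, a < b → b < C.T.N → C.el (C.srt a) < C.el (C.srt b) := by
      intro b
      induction b with
      | zero => intro a ha; omega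
      | succ b ih =>
        intro a ha hb
        have h := List.all_eq_true.1 hmono b (List.mem_range.2 (by omega))
        rw [decide_eq_true_eq] at h
        rcases Nat.lt_or_ge a b with hab | hab
        · exact lt_trans (ih a hab (by omega)) h
        · rwa [show a = b by omega]
    intro i i' hi hi' he
    have e1 := (hel i hi).2
    rw [he, (hel i' hi').2] at e1
    have e2 := eqP_of_toPerm_eq (hel i' hi').1 (hel i hi).1 e1
    have hpi := List.all_eq_true.1 hpos i (List.mem_range.2 hi)
    have hpi' := List.all_eq_true.1 hpos i' (List.mem_range.2 hi')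
    simp only [Bool.and_eq_true, beq_iff_eq, decide_eq_true_eq] at hpi hpi'
    have hcanon : ∀ t, t < C.T.N → ∀ s, s < C.T.N → eqP (C.el t) (C.el s) = true → C.el t = C.el s := by
      intro t ht s hs h
      have b1 := List.all_eq_true.1 hpos t (List.mem_range.2 ht)
      have b2 := List.all_eq_true.1 hpos s (List.mem_range.2 hs)
      simp only [Bool.and_eq_true, decide_eq_true_eq] at b1 b2
      exact eq_of_ap 24 _ _ b1.2 b2.2 fun k hk =>
        beq_iff_eq.1 (List.all_eq_true.1 h k (List.mem_range.2 hk))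
    have e3 := hcanon i' hi' i hi e2
    rcases Nat.lt_trichotomy (C.pos i) (C.pos i') with h | h | h
    · have := hsm _ _ h hpi'.1.2
      rw [hpi.1.1, hpi'.1.1] at this; omega
    · rw [← hpi.1.1, h, hpi'.1.1]
    · have := hsm _ _ h hpi.1.2
      rw [hpi.1.1, hpi'.1.1] at this; omega

/-- A certificate without assumptions rules out stem double covers. -/
theorem no_double_of_cert {G : Subgroup (Equiv.Perm GolayPt)} {inG : ℕ → Bool}
    (hG : ∀ P, inG P = true → validP P = true ∧ toPerm P ∈ G) (C : Cert) (hok : C.ok inG = true)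
    (hodd : ∀ m, C.T.N * m = Nat.card G → ¬ 2 ∣ m) (E : Type) [Group E] [Finite E] (τ : E →* G)
    (hτ : Cfsg.IsStemExtension τ) (h2 : Nat.card τ.ker = 2) (h0 : C.assume = 0 := by rfl) : False :=
  no_double_of_cert_base hG C hok hodd E τ hτ h2 fun c hc => absurd hc (by omega)

end CfsgLib.Golay.Mult
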