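import Cfsg.Prelude.Def_Spor_Mathieu
import Cfsg.Agent.Lib.Golay.Mult.M12Data
import Cfsg.Agent.Lib.Golay.Mult.Odd
import Cfsg.Agent.Lib.Golay.MathieuFacts
import Cfsg.Agent.Lib.Schur.ThreeCard
import Cfsg.Agent.Lib.Schur.OrderTwo

/-!
The double cover of M12 by monomial automorphisms of a Hadamard matrix of order twelve.
-/

set_option autoImplicit false
set_option linter.style.haveILetI false

namespace CfsgLib.Golay.Mult.Twelve

open Cfsg CfsgLib.Golay CfsgLib.Golay.Mult CfsgLib.Golay.SylowTwo
open scoped Pointwise commutatorElement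

attribute [local irreducible] idP toPerm mulP validP

/-- membership test -/
def inG (P : ℕ) : Bool := inM24 P && mimg P 340831 == 340831

theorem squareDodecad_dec : Cfsg.Spor.squareDodecad = dec 340831 := by
  rw [Cfsg.Spor.squareDodecad, qrWord_eq, support_wd]
  rfl

theorem hG : ∀ P, inG P = true → validP P = true ∧ toPerm P ∈ Cfsg.Spor.M12 := by
  intro P h
  simp only [inG, inM24, Bool.and_eq_true, beq_iff_eq] at h
  refine ⟨h.1.1, Subgroup.mem_inf.2 ⟨toPerm_mem_M24 (by simp only [inM24, Bool.and_eq_true]; exact h.1),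
    MulAction.mem_stabilizer_iff.2 ?_⟩⟩
  rw [squareDodecad_dec, smul_dec h.1.1, h.2]

theorem card_twelve : Nat.card Cfsg.Spor.M12 = 95040 := by
  rw [← Nat.card_congr (conjEquiv (K := Cfsg.Spor.M12) inf_le_left
    (MulAction.stabilizer M24 (dec 340831)) (one_mem M24) fun x => by
      simp only [inv_one, one_mul, mul_one, Subgroup.mem_inf, Cfsg.Spor.M12,
        MulAction.mem_stabilizer_iff, SetLike.coe_mem, true_and, squareDodecad_dec]
      rfl).toEquiv,
    natCard_stab_dodecad ⟨⟨wd 340831, wd_mem_of_inC (by decide +kernel), support_wd _⟩, by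
      rw [card_dec_eq_pop]; decide +kernel⟩]

/-- the sign change -/
def negP : ℕ := ((List.range 24).map fun i => (if i % 2 = 0 then i + 1 else i - 1) * 32 ^ i).sum

/-- the point of the dodecad under a signed point -/
def blk (q : GolayPt) : GolayPt := pt (twelvePts.getD (idx q / 2) 0)

/-- the columns -/
def colSet : Set (Finset GolayPt) := {s | ∃ c ∈ twelveCols, s = dec c}

/-- permutations of signed points over an element, commuting with the sign change, permuting columns -/
def invar : Subgroup (↥Cfsg.Spor.M12 × Equiv.Perm GolayPt) where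
  carrier := {x | (∀ q, blk (x.2 q) = (x.1 : Equiv.Perm GolayPt) (blk q)) ∧
    Commute x.2 (toPerm negP) ∧ x.2 ∈ MulAction.stabilizer (Equiv.Perm GolayPt) colSet}
  one_mem' := ⟨fun _ => rfl, Commute.one_left _, one_mem _⟩
  mul_mem' := by
    rintro a b ⟨ha1, ha2, ha3⟩ ⟨hb1, hb2, hb3⟩
    refine ⟨fun q => ?_, ha2.mul_left hb2, mul_mem ha3 hb3⟩
    show blk (a.2 (b.2 q)) = (a.1 : Equiv.Perm GolayPt) ((b.1 : Equiv.Perm GolayPt) (blk q))
    rw [ha1, hb1]
  inv_mem' := by
    rintro a ⟨h1, h2, h3⟩
    refine ⟨fun q => ?_, h2.inv_left, inv_mem h3⟩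
    show blk (a.2⁻¹ q) = (a.1 : Equiv.Perm GolayPt)⁻¹ (blk q)
    rw [Equiv.Perm.eq_inv_iff_eq, ← h1]
    congr 1
    simp

/-- the tests on a generator and its lift -/
def liftOK (g L : ℕ) : Bool :=
  inG g && validP L && eqP (mulP L negP) (mulP negP L) &&
    (List.range 24).all (fun i =>
      twelvePts.getD (ap L i / 2) 0 == ap g (twelvePts.getD (i / 2) 0) &&
        decide (twelvePts.getD (i / 2) 0 < 24)) &&
    twelveCols.all fun c => twelveCols.any fun c' => mimg L c == c'

theorem pair_mem_invar {g L : ℕ} (h : liftOK g L = true) :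
    (lift Cfsg.Spor.M12 g, toPerm L) ∈ invar := by
  simp only [liftOK, Bool.and_eq_true, List.all_eq_true, List.any_eq_true, beq_iff_eq,
    decide_eq_true_eq, List.mem_range] at h
  obtain ⟨⟨⟨⟨hg, hL⟩, hc⟩, hb⟩, hcol⟩ := h
  have hn : validP negP = true := by decide +kernel
  refine ⟨fun q => ?_, ?_, ?_⟩
  · show blk (toPerm L q) = (lift Cfsg.Spor.M12 g : Equiv.Perm GolayPt) (blk q)
    obtain ⟨h1, h2⟩ := hb (idx q) (idx_lt q)
    rw [lift_val hG hg, blk, blk, idx_toPerm hL, toPerm_apply (hG g hg).1, idx_pt _ h2, h1]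
  · show toPerm L * toPerm negP = toPerm negP * toPerm L
    rw [← toPerm_mulP hL hn, ← toPerm_mulP hn hL,
      toPerm_eq_of_eqP (validP_mulP hL hn) (validP_mulP hn hL) hc]
  · rw [MulAction.mem_stabilizer_iff]
    refine Set.eq_of_subset_of_ncard_le ?_ (le_of_eq (Set.ncard_smul_set _ _).symm) ?_
    · rintro _ ⟨s, ⟨c, hc', rfl⟩, rfl⟩
      obtain ⟨c', hm, he⟩ := hcol c hc'
      exact ⟨c', hm, by show toPerm L • dec c = _; rw [smul_dec hL, he]⟩
    · exact Set.toFinite _

/-- the generators of the cover -/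
noncomputable def gens : Set (↥Cfsg.Spor.M12 × Equiv.Perm GolayPt) :=
  {x | ∃ z ∈ twelveGens.zip twelveLifts, x = (lift Cfsg.Spor.M12 z.1, toPerm z.2)}

/-- the cover -/
noncomputable def Cover : Subgroup (↥Cfsg.Spor.M12 × Equiv.Perm GolayPt) := Subgroup.closure gens

/-- the projection -/
noncomputable def proj : Cover →* ↥Cfsg.Spor.M12 := (MonoidHom.fst _ _).comp Cover.subtype

theorem lifts_ok : (twelveGens.zip twelveLifts).all (fun z => liftOK z.1 z.2) = true := by
  decide +kernel

theorem cover_le : Cover ≤ invar := by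
  refine (Subgroup.closure_le _).2 ?_
  rintro _ ⟨z, hz, rfl⟩
  exact pair_mem_invar (List.all_eq_true.1 lifts_ok z hz)

theorem gens_ok : twelveGens.all inG = true ∧ twelveGens.length = twelveLifts.length ∧
    pcOK twelvePc twelvePcRels = true ∧ twelvePc.length = 6 ∧
    twelveGens.drop 7 = twelvePc ∧ [twelveGens.getD 3 0, twelveGens.getD 4 0] = twelveThree.take 2 := by
  decide +kernel

theorem gen_mem {P : ℕ} (h : P ∈ twelveGens) : lift Cfsg.Spor.M12 P ∈ proj.range := by
  obtain ⟨i, hi, rfl⟩ := List.getElem_of_mem h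
  have hi' : i < twelveLifts.length := gens_ok.2.1 ▸ hi
  clear h
  have hz : (twelveGens[i], twelveLifts[i]) ∈ twelveGens.zip twelveLifts := by
    rw [List.mem_iff_getElem]
    exact ⟨i, by simp [List.length_zip, hi, hi'], List.getElem_zip⟩
  exact ⟨⟨_, Subgroup.subset_closure ⟨_, hz, rfl⟩⟩, rfl⟩

theorem eqs (l r : List ℕ) (h : (l.all inG && r.all inG && eqP (prodP l) (prodP r)) = true) :
    (l.map (lift Cfsg.Spor.M12)).prod = (r.map (lift Cfsg.Spor.M12)).prod := prod_lift_eq hG h

/-- first generator of the Sylow 3-subgroup -/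
noncomputable def sx : ↥Cfsg.Spor.M12 := lift Cfsg.Spor.M12 (twelveThree.getD 0 0)
/-- second generator -/
noncomputable def sy : ↥Cfsg.Spor.M12 := lift Cfsg.Spor.M12 (twelveThree.getD 1 0)

theorem three_facts : sx ^ 3 = 1 ∧ sy ^ 3 = 1 ∧ sx * ⁅sx, sy⁆ = ⁅sx, sy⁆ * sx ∧
    sy * ⁅sx, sy⁆ = ⁅sx, sy⁆ * sy ∧ ⁅sx, sy⁆ ^ 3 = 1 ∧ ⁅sx, sy⁆ ≠ 1 := by
  set X := twelveThree.getD 0 0 with hX
  set Y := twelveThree.getD 1 0 with hY
  have exx : sx = lift Cfsg.Spor.M12 X := rfl
  have exy : sy = lift Cfsg.Spor.M12 Y := rfl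
  have hx : sx ^ 3 = 1 := by
    simpa [exx, pow_succ, mul_assoc] using eqs [X, X, X] [] (by decide +kernel)
  have hy : sy ^ 3 = 1 := by
    simpa [exy, pow_succ, mul_assoc] using eqs [Y, Y, Y] [] (by decide +kernel)
  have hxi : sx⁻¹ = sx * sx := inv_eq_of_mul_eq_one_right (by rw [← hx, pow_succ, pow_two, mul_assoc])
  have hyi : sy⁻¹ = sy * sy := inv_eq_of_mul_eq_one_right (by rw [← hy, pow_succ, pow_two, mul_assoc])
  have hc : ⁅sx, sy⁆ = sx * sy * (sx * sx) * (sy * sy) := by rw [commutatorElement_def, hxi, hyi]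
  refine ⟨hx, hy, ?_, ?_, ?_, ?_⟩ <;> rw [hc]
  · simpa [exx, exy, mul_assoc] using eqs [X, X, Y, X, X, Y, Y] [X, Y, X, X, Y, Y, X] (by decide +kernel)
  · simpa [exx, exy, mul_assoc] using eqs [Y, X, Y, X, X, Y, Y] [X, Y, X, X, Y, Y, Y] (by decide +kernel)
  · simpa [exx, exy, pow_succ, mul_assoc] using eqs [X, Y, X, X, Y, Y, X, Y, X, X, Y, Y, X, Y,
      X, X, Y, Y] [] (by decide +kernel)
  · simpa [exx, exy, mul_assoc] using prod_lift_ne hG (l := [X, Y, X, X, Y, Y]) (r := [])
      (by decide +kernel) rfl (by decide +kernel)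

theorem proj_surjective : Function.Surjective proj := by
  rw [← MonoidHom.range_eq_top]
  set H := proj.range with hH
  have hdvd : ∀ {p : ℕ} (i : ℕ), i < twelveGens.length → p.Prime →
      (List.replicate p (twelveGens.getD i 0)).all inG = true →
      eqP (prodP (List.replicate p (twelveGens.getD i 0))) idP = true →
      eqP (twelveGens.getD i 0) idP = false → p ∣ Nat.card H := by
    intro p i hi hp hall he hne
    haveI := Fact.mk hp
    set P := twelveGens.getD i 0 with hP
    have hm : P ∈ twelveGens := by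
      rw [hP, List.getD_eq_getElem?_getD, List.getElem?_eq_getElem hi]; exact List.getElem_mem hi
    have hin : inG P = true := List.all_eq_true.1 gens_ok.1 _ hm
    have h1 : lift Cfsg.Spor.M12 P ^ p = 1 := by
      have := eqs (List.replicate p P) [] (by
        rw [Bool.and_eq_true, Bool.and_eq_true]; exact ⟨⟨hall, rfl⟩, he⟩)
      simpa [List.map_replicate, List.prod_replicate] using this
    have h2 : lift Cfsg.Spor.M12 P ≠ 1 := fun h => by
      have e : toPerm P = toPerm idP := by rw [← lift_val hG hin, h, toPerm_idP]; rfl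
      rw [eqP_of_toPerm_eq (hG P hin).1 validP_idP e] at hne
      exact absurd hne (by simp)
    rw [← orderOf_eq_prime h1 h2]
    exact (Nat.card_zpowers (lift Cfsg.Spor.M12 P)) ▸
      Subgroup.card_dvd_of_le (Subgroup.zpowers_le.2 (gen_mem hm))
  have h11 : 11 ∣ Nat.card H := hdvd 6 (by decide +kernel) (by norm_num) (by decide +kernel)
    (by decide +kernel) (by decide +kernel)
  have h5 : 5 ∣ Nat.card H := hdvd 5 (by decide +kernel) (by norm_num) (by decide +kernel)
    (by decide +kernel) (by decide +kernel)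
  have h64 : 64 ∣ Nat.card H := by
    obtain ⟨-, -, hpc, hl, hdrop, -⟩ := gens_ok
    have hle : HS twelvePc ≤ H.map Cfsg.Spor.M12.subtype := by
      refine (Subgroup.closure_le _).2 ?_
      rintro _ ⟨P, hP, rfl⟩
      have hP' : P ∈ twelveGens := List.mem_of_mem_drop (hdrop.symm ▸ hP)
      exact ⟨_, gen_mem hP', lift_val hG (List.all_eq_true.1 gens_ok.1 _ hP')⟩
    have := Subgroup.card_dvd_of_le hle
    rw [card_HS hpc, hl, Subgroup.card_map_of_injective Cfsg.Spor.M12.subtype_injective] at this
    exact this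
  have h27 : 27 ∣ Nat.card H := by
    obtain ⟨hx, hy, hcx, hcy, hc3, hne⟩ := three_facts
    refine (three_pow_three_dvd_closure' hx hy hcx hcy hc3 hne).trans (Subgroup.card_dvd_of_le ?_)
    rw [Subgroup.closure_le]
    rintro a (rfl | rfl)
    · exact gen_mem (by decide +kernel)
    · exact gen_mem (by decide +kernel)
  refine Subgroup.eq_top_of_card_eq H (Nat.dvd_antisymm (Subgroup.card_subgroup_dvd_card H) ?_)
  rw [card_twelve]
  exact (show 95040 = 11 * 5 * 27 * 64 by norm_num) ▸
    Nat.Coprime.mul_dvd_of_dvd_of_dvd (by norm_num)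
      (Nat.Coprime.mul_dvd_of_dvd_of_dvd (by norm_num)
        (Nat.Coprime.mul_dvd_of_dvd_of_dvd (by norm_num) h11 h5) h27) h64
where
  three_pow_three_dvd_closure' {x y : ↥Cfsg.Spor.M12} (hx : x ^ 3 = 1) (hy : y ^ 3 = 1)
      (hcx : x * ⁅x, y⁆ = ⁅x, y⁆ * x) (hcy : y * ⁅x, y⁆ = ⁅x, y⁆ * y) (hc3 : ⁅x, y⁆ ^ 3 = 1)
      (hne : ⁅x, y⁆ ≠ 1) : 27 ∣ Nat.card (Subgroup.closure ({x, y} : Set ↥Cfsg.Spor.M12)) :=
    CfsgLib.Schur.three_pow_three_dvd_closure hx hy hcx hcy hc3 hne

/-- the candidate for a kernel element sending the first column to `t` -/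
def candP (t : ℕ) : ℕ :=
  ((List.range 24).map fun i =>
    (if (twelveCols.getD 0 0).testBit i == t.testBit i then i else ap negP i) * 32 ^ i).sum

theorem kernel_chk : twelveCols.all (fun t => validP (candP t) &&
    (List.range 24).all (fun i => decide (ap negP i < 24) && ap negP (ap negP i) == i &&
      ((twelveCols.getD 0 0).testBit i != (twelveCols.getD 0 0).testBit (ap negP i)) &&
      (t.testBit i != t.testBit (ap negP i)) && decide (twelvePts.getD (i / 2) 0 < 24) &&
      (List.range 24).all (fun j => twelvePts.getD (i / 2) 0 != twelvePts.getD (j / 2) 0 ||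
        j == i || j == ap negP i)) &&
    (eqP (candP t) idP || eqP (candP t) negP ||
      twelveCols.any fun c => twelveCols.all fun c' => decide (c' < 2 ^ 24) && mimg (candP t) c != c'))
    = true := by decide +kernel

theorem dec_injOn {a b : ℕ} (ha : a < 2 ^ 24) (hb : b < 2 ^ 24) (h : dec a = dec b) : a = b := by
  apply Nat.eq_of_testBit_eq
  intro i
  by_cases hi : i < 24
  · have := Finset.ext_iff.1 h (pt i)
    rw [mem_dec, mem_dec, idx_pt i hi] at this
    exact Bool.eq_iff_iff.2 this
  · rw [Nat.testBit_lt_two_pow (lt_of_lt_of_le ha (Nat.pow_le_pow_right two_pos (not_lt.1 hi))),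
      Nat.testBit_lt_two_pow (lt_of_lt_of_le hb (Nat.pow_le_pow_right two_pos (not_lt.1 hi)))]

theorem snd_of_ker {x : Cover} (hx : x ∈ proj.ker) :
    (x : ↥Cfsg.Spor.M12 × Equiv.Perm GolayPt).2 = 1 ∨
      (x : ↥Cfsg.Spor.M12 × Equiv.Perm GolayPt).2 = toPerm negP := by
  obtain ⟨h1, h2, h3⟩ := cover_le x.2
  set π := (x : ↥Cfsg.Spor.M12 × Equiv.Perm GolayPt).2
  have hg : (x : ↥Cfsg.Spor.M12 × Equiv.Perm GolayPt).1 = 1 := hx
  rw [hg] at h1
  have hcm : dec (twelveCols.getD 0 0) ∈ colSet := ⟨_, by decide +kernel, rfl⟩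
  have him : π • dec (twelveCols.getD 0 0) ∈ colSet := by
    have := Set.smul_mem_smul_set (a := π) hcm
    rwa [MulAction.mem_stabilizer_iff.1 h3] at this
  obtain ⟨t, ht, hte⟩ := him
  have hk := List.all_eq_true.1 kernel_chk t ht
  simp only [Bool.and_eq_true, List.all_eq_true, List.mem_range, decide_eq_true_eq, beq_iff_eq,
    bne_iff_ne, Bool.or_eq_true] at hk
  obtain ⟨⟨hv, hall⟩, hlast⟩ := hk
  have hn : validP negP = true := by decide +kernel
  have hπ : π = toPerm (candP t) := by
    refine eq_toPerm hv π fun q => ?_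
    obtain ⟨⟨⟨⟨⟨hlt, hinv⟩, hc0⟩, hct⟩, hp⟩, hblk⟩ := hall (idx q) (idx_lt q)
    have hq : idx (π q) = idx q ∨ idx (π q) = ap negP (idx q) := by
      have hb := congrArg idx (h1 q)
      simp only [blk, Subgroup.coe_one, Equiv.Perm.one_apply, idx_pt _ hp] at hb
      have hp' := (hall (idx (π q)) (idx_lt _)).1.2
      rw [idx_pt _ hp'] at hb
      rcases hblk (idx (π q)) (idx_lt _) with (h | h) | h
      · exact absurd hb.symm h
      · exact Or.inl h
      · exact Or.inr h
    have hmem : (t.testBit (idx (π q))) = (twelveCols.getD 0 0).testBit (idx q) := by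
      have := Finset.smul_mem_smul_finset_iff (a := π) (b := q) (s := dec (twelveCols.getD 0 0))
      rw [hte, mem_dec, mem_dec] at this
      exact Bool.eq_iff_iff.2 this
    have hcand : ap (candP t) (idx q) =
        if (twelveCols.getD 0 0).testBit (idx q) == t.testBit (idx q) then idx q else ap negP (idx q) := by
      have := ap_sum24 (fun i => if (twelveCols.getD 0 0).testBit i == t.testBit i then i else ap negP i)
        (fun i hi => by
          split_ifs
          · omega
          · have := (hall i hi).1.1.1.1.1; omega) (idx q) (idx_lt q)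
      exact this
    rw [hcand]
    rcases hq with h | h <;> rw [h] at hmem ⊢
    · rw [if_pos (by rw [beq_iff_eq, hmem])]
    · rw [if_neg (fun he => hct (by rw [beq_iff_eq] at he; rw [hmem, he]))]
  rcases hlast with (h | h) | h
  · exact Or.inl (by rw [hπ, toPerm_eq_of_eqP hv validP_idP h, toPerm_idP])
  · exact Or.inr (by rw [hπ, toPerm_eq_of_eqP hv hn h])
  · obtain ⟨c, hc, hcc⟩ := List.any_eq_true.1 h
    simp only [List.all_eq_true, Bool.and_eq_true, decide_eq_true_eq, bne_iff_ne] at hcc
    have hmem2 : toPerm (candP t) • dec c ∈ colSet := by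
      have := Set.smul_mem_smul_set (a := π) (show dec c ∈ colSet from ⟨c, hc, rfl⟩)
      rw [MulAction.mem_stabilizer_iff.1 h3, hπ] at this
      exact this
    obtain ⟨c', hc', he⟩ := hmem2
    rw [smul_dec hv] at he
    exact absurd (dec_injOn (mimg_lt hv c) (hcc c' hc').1 he) (hcc c' hc').2
where
  /-- digits of a sum -/
  ap_sum24 (f : ℕ → ℕ) (hf : ∀ i, i < 24 → f i < 32) (i : ℕ) (hi : i < 24) :
      ap ((List.range 24).map fun j => f j * 32 ^ j).sum i = f i := by
    have key : ∀ n (f : ℕ → ℕ), (∀ i, i < n → f i < 32) → ∀ i, i < n →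
        ap ((List.range n).map fun j => f j * 32 ^ j).sum i = f i := by
      intro n
      induction n with
      | zero => intro _ _ i hi; omega
      | succ n ih =>
        intro f hf i hi
        have e : ((List.range (n + 1)).map fun j => f j * 32 ^ j).sum =
            f 0 + 32 * ((List.range n).map fun j => f (j + 1) * 32 ^ j).sum := by
          rw [List.range_succ_eq_map, List.map_cons, List.sum_cons, pow_zero, mul_one, List.map_map,
            ← List.sum_map_mul_left]
          congr 1
          refine congrArg List.sum (List.map_congr_left fun j _ => ?_)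
          simp only [Function.comp_apply, Nat.succ_eq_add_one, pow_succ]
          ring
        rw [e]
        rcases i with _ | i
        · rw [ap_zero, Nat.add_mul_mod_self_left, Nat.mod_eq_of_lt (hf 0 (by omega))]
        · rw [ap_succ, Nat.add_mul_div_left _ _ (by norm_num : 0 < 32),
            Nat.div_eq_of_lt (hf 0 (by omega)), zero_add,
            ih (fun j => f (j + 1)) (fun j hj => hf _ (by omega)) i (by omega)]
    exact key 24 f hf i hi

/-- the sign change in the cover -/
theorem stem : ∃ (Γ : Type) (_ : Group Γ) (_ : Finite Γ) (σ : Γ →* ↥Cfsg.Spor.M12),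
    Cfsg.IsStemExtension σ ∧ Nat.card σ.ker = 2 := by
  have hw : ((twelveWords.1 ++ twelveWords.2).all fun j => decide (j < twelveLifts.length)) = true := by
    decide +kernel
  have hmem : ∀ w : List ℕ, (w.all fun j => decide (j < twelveLifts.length)) = true →
      (((w.map fun j => twelveGens.getD j 0).map (lift Cfsg.Spor.M12)).prod,
        toPerm (prodP (w.map fun j => twelveLifts.getD j 0))) ∈ Cover ∧
      validP (prodP (w.map fun j => twelveLifts.getD j 0)) = true := by
    intro w
    induction w with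
    | nil =>
      intro _
      refine ⟨?_, validP_idP⟩
      simp only [List.map_nil, List.prod_nil, prodP, toPerm_idP]
      exact one_mem _
    | cons j w ih =>
      intro h
      simp only [List.all_cons, Bool.and_eq_true, decide_eq_true_eq] at h
      obtain ⟨h1, h2⟩ := ih h.2
      have hj : j < twelveGens.length := gens_ok.2.1 ▸ h.1
      have hz : (twelveGens.getD j 0, twelveLifts.getD j 0) ∈ twelveGens.zip twelveLifts := by
        rw [List.getD_eq_getElem?_getD, List.getD_eq_getElem?_getD, List.getElem?_eq_getElem hj,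
          List.getElem?_eq_getElem h.1, List.mem_iff_getElem]
        exact ⟨j, by simp [List.length_zip, hj, h.1], by simp⟩
      have hvL : validP (twelveLifts.getD j 0) = true := by
        have := List.all_eq_true.1 lifts_ok _ hz
        simp only [liftOK, Bool.and_eq_true] at this
        exact this.1.1.1.2
      refine ⟨?_, validP_mulP hvL h2⟩
      simp only [List.map_cons, List.prod_cons, prodP, toPerm_mulP hvL h2]
      exact mul_mem (Subgroup.subset_closure (show _ ∈ gens from ⟨_, hz, rfl⟩)) h1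
  rw [List.all_append, Bool.and_eq_true] at hw
  obtain ⟨ha, hva⟩ := hmem _ hw.1
  obtain ⟨hb, hvb⟩ := hmem _ hw.2
  set A : Cover := ⟨_, ha⟩
  set B : Cover := ⟨_, hb⟩
  have hn : validP negP = true := by decide +kernel
  have hfst : A.1.1 * B.1.1 = B.1.1 * A.1.1 := by
    have e := eqs ((twelveWords.1.map fun j => twelveGens.getD j 0) ++ twelveWords.2.map fun j => twelveGens.getD j 0)
      ((twelveWords.2.map fun j => twelveGens.getD j 0) ++ twelveWords.1.map fun j => twelveGens.getD j 0)
      (by decide +kernel)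
    rw [List.map_append, List.map_append, List.prod_append, List.prod_append] at e
    exact e
  have hker : ⁅A, B⁆ ∈ proj.ker := by
    rw [MonoidHom.mem_ker, map_commutatorElement, commutatorElement_eq_one_iff_mul_comm]
    exact hfst
  have hne : ⁅A, B⁆ ≠ 1 := fun h => by
    rw [commutatorElement_eq_one_iff_mul_comm] at h
    have h' := congrArg (fun z : Cover => z.1.2) h
    change toPerm _ * toPerm _ = toPerm _ * toPerm _ at h'
    rw [← toPerm_mulP hva hvb, ← toPerm_mulP hvb hva] at h'
    have := eqP_of_toPerm_eq (validP_mulP hva hvb) (validP_mulP hvb hva) h'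
    revert this; decide +kernel
  have hext : ∀ x : Cover, x ∈ proj.ker → ∀ y : Cover, y.1.2 = x.1.2 → y ∈ proj.ker → y = x :=
    fun x hx y hy hy' => Subtype.ext (Prod.ext (hy'.trans hx.symm) hy)
  have hall : ∀ x : Cover, x ∈ proj.ker → x = 1 ∨ x = ⁅A, B⁆ := by
    intro x hx
    rcases snd_of_ker hker with h | h
    · exact absurd (hext 1 (one_mem _) _ h hker) hne
    rcases snd_of_ker hx with h' | h'
    · exact Or.inl (hext 1 (one_mem _) _ h' hx)
    · exact Or.inr (hext _ hker _ (h'.trans h.symm) hx)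
  refine ⟨Cover, inferInstance, inferInstance, proj, ⟨proj_surjective, ?_, ?_⟩, ?_⟩
  · intro x hx
    rw [Subgroup.mem_center_iff]
    intro y
    apply Subtype.ext
    have hx1 : x.1.1 = 1 := hx
    refine Prod.ext ?_ ?_
    · show y.1.1 * x.1.1 = x.1.1 * y.1.1
      rw [hx1, one_mul, mul_one]
    · show y.1.2 * x.1.2 = x.1.2 * y.1.2
      rcases snd_of_ker hx with h | h
      · rw [h, one_mul, mul_one]
      · rw [h]; exact (cover_le y.2).2.1
  · intro x hx
    rcases hall x hx with rfl | rfl
    · exact one_mem _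
    · exact Subgroup.commutator_mem_commutator (Subgroup.mem_top _) (Subgroup.mem_top _)
  · rw [Nat.card_eq_two_iff]
    refine ⟨1, ⟨⁅A, B⁆, hker⟩, fun h => hne (congrArg Subtype.val h).symm, ?_⟩
    ext x
    simp only [Set.mem_insert_iff, Set.mem_singleton_iff, Set.mem_univ, iff_true]
    rcases hall x.1 x.2 with h | h
    · exact Or.inl (Subtype.ext h)
    · exact Or.inr (Subtype.ext h)

end CfsgLib.Golay.Mult.Twelve
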